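import Cfsg.Agent.H751.IF.HexKill
import Cfsg.Agent.Cit.HexG2
import Cfsg.Agent.S2177
import Cfsg.Agent.S1059

/-!
# S5719: `G₂(q)`, `q` even (helper751)
-/

set_option autoImplicit false
set_option linter.unusedSectionVars false

namespace Cfsg.Agent.H751.G2Even

open Cfsg.Lie
open Cfsg.Agent.ChevalleyStructure.Elts Cfsg.Agent.ChevalleyStructure.NConj
open Cfsg.Agent.Hexagon.G2Pos Cfsg.Agent.Hexagon.G2Side Cfsg.Agent.Hexagon.G2Rel
open Cfsg.Agent.SplitTwo Cfsg.Agent.Cit.HexBase Cfsg.Agent.Cit.HexG2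
open Cfsg.Agent.TitsThree.RankTwoIdx Cfsg.Agent.TitsThree.RankTwoZ
open Cfsg.Agent.Lib.SL2Mat
open Cfsg.Agent.ClassificationK.GTwoChev (ph ph6 ph7)

universe u

variable {F : Type u} [Field F]

theorem center_eq' (ha : ∃ a : F, a ≠ 0 ∧ a ≠ 1) (g : ↥(chevG2.group F)) (hg : ∀ x, g * x = x * g) : g = 1 := by
  obtain ⟨hs, hc⟩ := S1055.result ha
  have hz : Subgroup.center ↥(chevG2.group F) = ⊥ := by
    rcases hs.eq_bot_or_eq_top_of_normal (Subgroup.center ↥(chevG2.group F)) inferInstance with h | h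
    · exact h
    · exact absurd ⟨⟨fun a b => (Subgroup.mem_center_iff.1 (h ▸ Subgroup.mem_top b) a)⟩⟩ hc
  have : g ∈ Subgroup.center ↥(chevG2.group F) := Subgroup.mem_center_iff.2 fun x => (hg x).symm
  rwa [hz, Subgroup.mem_bot] at this

/-- **`G₂(F)`**, `|F| > 2`, is a `HexGrp`. (copy of `Cit.HexG2.g2`) -/
noncomputable def g2' (F : Type u) [Field F] (h2 : ∃ a : F, a ≠ 0 ∧ a ≠ 1) :
    HexGrp (RingEquiv.refl F) ↥(chevG2.group F) where
  X := X F
  x1 := Cfsg.Agent.Hexagon.G2Par.y1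
  x2 := Cfsg.Agent.Hexagon.G2Par.y2
  x3 := Cfsg.Agent.Hexagon.G2Par.y3
  x4 := Cfsg.Agent.Hexagon.G2Par.y4
  x5 := Cfsg.Agent.Hexagon.G2Par.y5
  x6 := Cfsg.Agent.Hexagon.G2Par.y6
  par := Cfsg.Agent.Hexagon.G2End.hexPar
  pa := (ph6 F).comp (inc F)
  pb := ph7 F
  pa_up t := by
    rw [MonoidHom.comp_apply, inc_up]
    refine (ph_up' (by decide) _).trans (Subtype.ext ?_)
    exact (Cfsg.Agent.Hexagon.G2End.xG_eq 6 (t : F)).symm
  pb_up a := by
    refine (ph_up' (by decide) _).trans (Subtype.ext ?_)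
    exact (Cfsg.Agent.Hexagon.G2End.xG_eq 7 a).symm
  pa_lo g := by
    rw [mem_X' (show tab 0 = 5 by decide +kernel)]
    constructor
    · rintro ⟨t, rfl⟩
      refine ⟨⟨t, rfl⟩, ?_⟩
      rw [MonoidHom.comp_apply, inc_lo]
      exact ph_lo' (by decide) (by decide) t
    · rintro ⟨t, rfl⟩
      refine ⟨t, ?_⟩
      rw [MonoidHom.comp_apply, inc_lo]
      exact ph_lo' (by decide) (by decide) _
  pb_lo g := by
    rw [mem_X' (show tab 7 = 4 by decide +kernel)]
    constructor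
    · rintro ⟨t, rfl⟩
      exact ⟨t, ph_lo' (by decide) (by decide) t⟩
    · rintro ⟨t, rfl⟩
      exact ⟨t, ph_lo' (by decide) (by decide) t⟩
  mapsA t ht := by
    refine maps_n (i := 1) (t := (t : F)) (by norm_num) (fun k => ?_) (fun k => by ring) (coe_ne ht) ?_
    · exact tab_J k
    · rw [MonoidHom.comp_apply, inc_wm]
      exact ph_wm _ _ _
  mapsB s hs := by
    refine maps_n (i := 0) (t := s) (by norm_num) (fun k => ?_) (fun k => by ring) hs ?_
    · have h := tab_I k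
      have e : (((6 : ℕ) : ZMod (2 * 6)) + 2 - k) = 8 - k := by
        congr 1
      rwa [e] at h
    · exact ph_wm _ _ _
  gen := Cfsg.Agent.Hexagon.G2Side.gen F
  cen := center_eq' h2
  tri u hu v hv s hs t ht e := by
    refine tri_aux (h := ph7 F (dg s hs) * (ph6 F).comp (inc F) (dg t ht)) (Sg_pos u hu) (Sg_neg v hv) ?_ e
    rw [Subgroup.coe_mul, MonoidHom.comp_apply, inc_dg]
    exact mul_mem (ph_dg_mem _ _ _) (ph_dg_mem _ _ _)

theorem card_fx (F : Type*) [Field F] [Finite F] : Nat.card ↥(fx (RingEquiv.refl F)) = Nat.card F :=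
  Nat.card_congr (Equiv.subtypeUnivEquiv fun _ => rfl)

/-- **`G₂(q)`, `q` even.** -/
theorem g2_even (F : Type) [Field F] [Fintype F] (he : Even (Fintype.card F)) (h3 : 3 ≤ Fintype.card F)
    (hs : IsSimpleGroup (chevG2.group F)) : H209.Fxy.KillE (chevG2.group F) := by
  have hchar : CharP F 2 := by
    have h2 : ringChar F = 2 := by
      by_contra hne
      exact (Nat.not_odd_iff_even.2 he) (by
        have := FiniteField.odd_card_of_char_ne_two hne
        exact Nat.odd_iff.2 this)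
    exact ringChar.eq_iff.1 h2
  have h4 : 4 ≤ Fintype.card F := by
    obtain ⟨k, hk⟩ := he
    omega
  have ha : ∃ a : F, a ≠ 0 ∧ a ≠ 1 := by
    classical
    by_contra hcon
    push Not at hcon
    have h5 : Fintype.card F ≤ 2 := by
      have h6 : (Finset.univ : Finset F) ⊆ {0, 1} := by
        intro x _
        by_cases hx : x = 0
        · simp [hx]
        · simp [hcon x hx]
      calc Fintype.card F = (Finset.univ : Finset F).card := rfl
        _ ≤ ({0, 1} : Finset F).card := Finset.card_le_card h6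
        _ ≤ 2 := Finset.card_le_two
    omega
  set q := Fintype.card F with hq
  have hcF : Nat.card F = q := Nat.card_eq_fintype_card
  have hcf : Nat.card ↥(fx (RingEquiv.refl F)) = q := by rw [card_fx, hcF]
  have hcL := Cfsg.Agent.S1059.result (F := F) (q := q) rfl
  refine HexQ.killE (g2' F ha) (Λ := q ^ 6 - 1) ?_ ?_ ?_ ?_ ?_
  · rw [hcL, hcf, hcF]
    apply le_of_eq
    ring
  · rw [hcf, hcF]
    calc q ^ 6 - 1 ≤ q ^ 6 := Nat.sub_le _ _
      _ ≤ 16 * q ^ 6 := by omega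
      _ = 16 * q * q ^ 5 := by ring
  · rw [hcf, hcF]
    calc q ^ 6 - 1 ≤ q ^ 6 := Nat.sub_le _ _
      _ ≤ q ^ 9 := Nat.pow_le_pow_right (by omega) (by norm_num)
      _ = q ^ 7 * q ^ 2 := by ring
  · rw [hcL, hcf, hcF]
    calc q ^ 6 * (q ^ 2 - 1) * (q ^ 6 - 1) ≤ q ^ 6 * q ^ 2 * q ^ 6 :=
          Nat.mul_le_mul (Nat.mul_le_mul_left _ (Nat.sub_le _ _)) (Nat.sub_le _ _)
      _ = (q * q) ^ 7 := by ring
  · intro t ht
    have ho : orderOf (t : GL chevG2.Idx F) = 2 := by rw [Subgroup.orderOf_coe, ht]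
    obtain ⟨y, hy, hy', h, hh, e⟩ := (Cfsg.Agent.S2177.result (F := F) h4).2.1 t t.2 ho
    have hcj : IsConj t (⟨y, hy⟩ : ↥(chevG2.group F)) := isConj_iff.2 ⟨⟨h, hh⟩, Subtype.ext e⟩
    simp only [List.mem_cons, List.not_mem_nil, or_false] at hy'
    rcases hy' with h1 | h1
    · refine ⟨4, _, ?_, hcj⟩
      show _ ∈ X F 4
      rw [mem_X' (show tab 4 = 11 by decide +kernel)]
      exact ⟨1, Subtype.ext (Units.ext h1)⟩
    · refine ⟨3, _, ?_, hcj⟩
      show _ ∈ X F 3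
      rw [mem_X' (show tab 3 = 9 by decide +kernel)]
      exact ⟨1, Subtype.ext (Units.ext h1)⟩

end Cfsg.Agent.H751.G2Even
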